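import Mathlib
import Cfsg.Prelude.Def_GeometricClasses
import Cfsg.Agent.Lib.Helper27.ASC.Defs
import Cfsg.Agent.Lib.helper23.ASCO.Defs

/-!
# Project O9 (leader: helper25) : S5835, the maximal subgroups of `Ω_9(q)`, `q` odd (case list)

Vocabulary on top of `Cfsg.Agent.Lib.helper23.ASCO` (`ClassTS`, `ClassND`, `ClassFrame`, `ClassSub`, `GramPrime`): the three
new alternatives of S5835 and the conclusion `ConclO9`, for any index type and any form (to be transported from `Fin 9`).
-/

set_option autoImplicit false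

namespace Cfsg.Agent.Lib.Helper25.O9

open Cfsg Cfsg.Geo Cfsg.Agent.Lib.Helper27.ASC Cfsg.Agent.Lib.helper23.ASCO
open scoped MatrixGroups Matrix

variable {ι : Type} [Fintype ι] [DecidableEq ι] {F : Type*} [Field F]

/-- class 2, three pairwise orthogonal isometric non-degenerate blocks of dimension three -/
def ClassDec3 (Q : (ι → F) → F) (H : Subgroup (GL ι F)) : Prop :=
  ∃ D : Fin 3 → Submodule F (ι → F), IsOrthogonalMDecomposition Q 3 D ∧
    H = decompositionStabilizer D ⊓ omegaGL Q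

/-- class 3, self-adjoint extension fields of degree three -/
def ClassFld3 (Q : (ι → F) → F) (H : Subgroup (GL ι F)) : Prop :=
  ∃ K : Subalgebra F (Matrix ι ι F), IsFieldSubalgebra 3 K ∧ IsSelfAdjointFor (QuadraticMap.polar Q) K ∧
    H = subalgebraNormalizer K ⊓ omegaGL Q

/-- class 7, tensor squares of a three-dimensional form -/
def ClassPow32 (Q : (ι → F) → F) (H : Subgroup (GL ι F)) : Prop :=
  ∃ (e : ι ≃ (Fin 2 → Fin 3)) (P : GL ι F) (f₁ : (Fin 3 → F) → (Fin 3 → F) → F), IsSymmetricForm f₁ ∧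
    IsTensorPowerFormStructure id (QuadraticMap.polar Q) f₁ e P ∧ H = tensorWreathSubgroup 3 2 e P ⊓ omegaGL Q

/-- the eight alternatives of S5835 for a form `Q` on `F^ι` -/
def ConclO9 [Fintype F] (Q : (ι → F) → F) (H : Subgroup (GL ι F)) : Prop :=
  ClassTS Q H ∨ ClassND Q H ∨ ((Fintype.card F).Prime ∧ ClassFrame 9 Q H) ∨ (5 ≤ Fintype.card F ∧ ClassDec3 Q H) ∨
    ClassFld3 Q H ∨ ClassSub Q H ∨ (5 ≤ Fintype.card F ∧ ClassPow32 Q H) ∨ InOrthogonalResidualClass H

end Cfsg.Agent.Lib.Helper25.O9
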